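import Groth.Agent.SGA3cLib.DSChar
import Groth.Prelude.Def_WeilRes
import Mathlib.RingTheory.Etale.Basic
import Mathlib.RingTheory.Ideal.Quotient.Operations

/-! Sections of a Weil restriction of Gm along a finite algebra lift from the closed points of a semilocal base. -/

set_option autoImplicit false
set_option linter.style.haveILetI false
set_option backward.isDefEq.respectTransparency.types false

universe u

open CategoryTheory Limits AlgebraicGeometry TensorProduct

noncomputable section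

namespace Groth.Agent.WeilUnits26

variable {A B : Type u} [CommRing A] [CommRing B] [Algebra A B]

theorem exists_unit_lift [Finite (MaximalSpectrum A)] [Module.Finite A B]
    (y : ∀ m : MaximalSpectrum A, ((A ⧸ m.asIdeal) ⊗[A] B)ˣ) :
    ∃ b : Bˣ, ∀ m, (1 : A ⧸ m.asIdeal) ⊗ₜ[A] (b : B) = (y m : (A ⧸ m.asIdeal) ⊗[A] B) := by
  classical
  cases nonempty_fintype (MaximalSpectrum A)
  have hsurj : ∀ m : MaximalSpectrum A, ∀ z : (A ⧸ m.asIdeal) ⊗[A] B, ∃ b : B,
      (1 : A ⧸ m.asIdeal) ⊗ₜ[A] b = z := by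
    intro m z
    induction z using TensorProduct.induction_on with
    | zero => exact ⟨0, TensorProduct.tmul_zero _ _⟩
    | tmul a b =>
      obtain ⟨a, rfl⟩ := Ideal.Quotient.mk_surjective a
      refine ⟨a • b, ?_⟩
      rw [← TensorProduct.smul_tmul]
      congr 1
      rw [Algebra.smul_def, mul_one]
      rfl
    | add x x' hx hx' =>
      obtain ⟨b, rfl⟩ := hx
      obtain ⟨b', rfl⟩ := hx'
      exact ⟨b + b', TensorProduct.tmul_add _ _ _⟩
  choose β hβ using fun m => hsurj m (y m : (A ⧸ m.asIdeal) ⊗[A] B)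
  have he : ∀ m : MaximalSpectrum A, ∃ e : A, ∀ m' : MaximalSpectrum A,
      Ideal.Quotient.mk m'.asIdeal e = if m' = m then 1 else 0 := by
    intro m
    have hco : Pairwise (fun i j : MaximalSpectrum A => IsCoprime i.asIdeal j.asIdeal) := fun i j hij =>
      Ideal.isCoprime_iff_sup_eq.2 (i.isMaximal.coprime_of_ne j.isMaximal fun h => hij (MaximalSpectrum.ext h))
    obtain ⟨e, he⟩ := Ideal.Quotient.mk_surjective
      ((Ideal.quotientInfRingEquivPiQuotient (fun i : MaximalSpectrum A => i.asIdeal) hco).symm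
        (fun m' => if m' = m then 1 else 0))
    refine ⟨e, fun m' => ?_⟩
    have h := congrArg (Ideal.quotientInfRingEquivPiQuotient (fun i : MaximalSpectrum A => i.asIdeal) hco) he
    rw [RingEquiv.apply_symm_apply] at h
    exact (congrFun h m')
  choose e he using he
  let b : B := ∑ m, e m • β m
  have hb : ∀ m, (1 : A ⧸ m.asIdeal) ⊗ₜ[A] b = (y m : (A ⧸ m.asIdeal) ⊗[A] B) := by
    intro m
    have h1 : ∀ m', (1 : A ⧸ m.asIdeal) ⊗ₜ[A] (e m' • β m') =
        (Ideal.Quotient.mk m.asIdeal (e m')) ⊗ₜ[A] β m' := fun m' => by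
      rw [← TensorProduct.smul_tmul, Algebra.smul_def, mul_one]; rfl
    rw [TensorProduct.tmul_sum, Finset.sum_eq_single m]
    · rw [h1, he, if_pos rfl, hβ]
    · intro m' _ hne
      rw [h1, he, if_neg (Ne.symm hne), TensorProduct.zero_tmul]
    · intro h; exact absurd (Finset.mem_univ m) h
  have hu : IsUnit b := by
    by_contra hnu
    obtain ⟨N, hN, hbN⟩ := exists_max_ideal_of_mem_nonunits hnu
    haveI := hN
    haveI : Algebra.IsIntegral A B := Algebra.IsIntegral.of_finite A B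
    let m : MaximalSpectrum A := ⟨N.comap (algebraMap A B), Ideal.isMaximal_comap_of_isIntegral_of_isMaximal N⟩
    let φ : (A ⧸ m.asIdeal) ⊗[A] B →ₐ[A] B ⧸ N :=
      Algebra.TensorProduct.lift (Ideal.Quotient.liftₐ m.asIdeal (Algebra.ofId A (B ⧸ N)) fun a ha => by
          change algebraMap A (B ⧸ N) a = 0
          rw [IsScalarTower.algebraMap_apply A B (B ⧸ N), Ideal.Quotient.algebraMap_eq, Ideal.Quotient.eq_zero_iff_mem]
          exact ha)
        (Ideal.Quotient.mkₐ A N) (fun _ _ => Commute.all _ _)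
    have h0 : φ ((1 : A ⧸ m.asIdeal) ⊗ₜ[A] b) = 0 := by
      simp only [φ, Algebra.TensorProduct.lift_tmul, map_one, one_mul]
      exact Ideal.Quotient.eq_zero_iff_mem.2 hbN
    rw [hb] at h0
    exact ((y m).isUnit.map φ).ne_zero h0
  exact ⟨hu.unit, hb⟩

theorem main (A : Type u) [CommRing A] [Finite (MaximalSpectrum A)]
    (B : Type u) [CommRing B] [Algebra A B] [Module.Finite A B]
    (P : Over (Spec (CommRingCat.of A))) (q : Red.bc (Spec.map (CommRingCat.ofHom (algebraMap A B))) P ⟶ Red.Gm (Spec (CommRingCat.of B)))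
    (hP : WeilRes.IsWeilRes (Spec.map (CommRingCat.ofHom (algebraMap A B))) (Red.Gm (Spec (CommRingCat.of B))) P q)
    (u : ∀ m : MaximalSpectrum A, Spec (CommRingCat.of (A ⧸ m.asIdeal)) ⟶ P.left)
    (hu : ∀ m : MaximalSpectrum A, u m ≫ P.hom = (Spec.map (CommRingCat.ofHom (Ideal.Quotient.mk m.asIdeal)))) :
    ∃ s : Spec (CommRingCat.of A) ⟶ P.left, s ≫ P.hom = 𝟙 (Spec (CommRingCat.of A)) ∧
      ∀ m : MaximalSpectrum A, (Spec.map (CommRingCat.ofHom (Ideal.Quotient.mk m.asIdeal))) ≫ s = u m := by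
  let f := Spec.map (CommRingCat.ofHom (algebraMap A B))
  let π : ∀ m : MaximalSpectrum A, Spec (CommRingCat.of (A ⧸ m.asIdeal)) ⟶ Spec (CommRingCat.of A) := fun m =>
    Spec.map (CommRingCat.ofHom (algebraMap A (A ⧸ m.asIdeal)))
  let T : Over (Spec (CommRingCat.of A)) := Over.mk (𝟙 _)
  let Tm : MaximalSpectrum A → Over (Spec (CommRingCat.of A)) := fun m => Over.mk (π m)
  let t : ∀ m, Tm m ⟶ T := fun m => Over.homMk (π m) (Category.comp_id _)
  let um : ∀ m, Tm m ⟶ P := fun m => Over.homMk (u m) (hu m)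
  let x : ∀ m, Red.bc f (Tm m) ⟶ Red.Gm (Spec (CommRingCat.of B)) := fun m => WeilRes.restr f q (Tm m) (um m)
  let z : ∀ m, (Γ((Red.bc f (Tm m)).left, ⊤))ˣ := fun m =>
    (SGA3cLib.dsFn (x m)).toHomUnits (Multiplicative.ofAdd 1)
  let e : ∀ m, (Red.bc f (Tm m)).left ≅ Spec (CommRingCat.of ((A ⧸ m.asIdeal) ⊗[A] B)) := fun m =>
    pullbackSpecIso A (A ⧸ m.asIdeal) B
  let σ : B →+* Γ((Red.bc f T).left, ⊤) :=
    ((Scheme.ΓSpecIso (CommRingCat.of B)).inv ≫ (Red.bc f T).hom.appTop).hom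
  let θ : ∀ m, Γ((Red.bc f (Tm m)).left, ⊤) ≅ CommRingCat.of ((A ⧸ m.asIdeal) ⊗[A] B) := fun m =>
    Scheme.Γ.mapIso (e m).symm.op ≪≫ Scheme.ΓSpecIso _
  obtain ⟨b, hb⟩ := exists_unit_lift (A := A) (B := B) fun m => Units.map (θ m).hom.hom.toMonoidHom (z m)
  obtain ⟨p, hp⟩ := SGA3cLib.exists_dsPt (W := Red.bc f T) (U := Spec (CommRingCat.of B)) (M := ℤ)
    ((Units.coeHom _).comp (zpowersHom _ (Units.map σ.toMonoidHom b)))
  obtain ⟨s, hs⟩ := (hP T).2 p
  refine ⟨s.left, Over.w s, fun m => ?_⟩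
  have key : t m ≫ s = um m := by
    apply (hP (Tm m)).1
    rw [WeilRes.restr_comp, show WeilRes.restr f q T s = p from hs]
    apply SGA3cLib.dsFn_injective
    refine DFunLike.ext _ _ fun k => ?_
    suffices h1 : SGA3cLib.dsFn ((Over.pullback f).map (t m) ≫ p) (Multiplicative.ofAdd 1) = (z m : Γ((Red.bc f (Tm m)).left, ⊤)) by
      have h2 : (SGA3cLib.dsFn ((Over.pullback f).map (t m) ≫ p)).toHomUnits = (SGA3cLib.dsFn (x m)).toHomUnits :=
        MonoidHom.ext_mint (Units.ext h1)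
      exact congrArg Units.val (DFunLike.congr_fun h2 k)
    rw [SGA3cLib.dsFn_comp, hp]
    have hb' : (1 : A ⧸ m.asIdeal) ⊗ₜ[A] (b : B) = (θ m).hom (z m : Γ((Red.bc f (Tm m)).left, ⊤)) := hb m
    have hinj : Function.Injective (θ m).hom := (ConcreteCategory.bijective_of_isIso (θ m).hom).1
    refine hinj (Eq.trans ?_ hb')
    have h3 : ((Over.pullback f).map (t m)).left ≫ (Red.bc f T).hom =
        (e m).hom ≫ Spec.map (CommRingCat.ofHom (Algebra.TensorProduct.includeRight (R := A) (A := A ⧸ m.asIdeal) (B := B)).toRingHom) := by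
      rw [Over.w]
      exact (pullbackSpecIso_hom_snd A (A ⧸ m.asIdeal) B).symm
    have h4 : (e m).inv ≫ ((Over.pullback f).map (t m)).left ≫ (Red.bc f T).hom =
        Spec.map (CommRingCat.ofHom (Algebra.TensorProduct.includeRight (R := A) (A := A ⧸ m.asIdeal) (B := B)).toRingHom) := by
      rw [h3, Iso.inv_hom_id_assoc]
    have h5 : σ ∘ (id : B → B) = σ := rfl
    have h6 : (CommRingCat.ofHom σ) ≫ ((Over.pullback f).map (t m)).left.appTop ≫ (θ m).hom =
        CommRingCat.ofHom (Algebra.TensorProduct.includeRight (R := A) (A := A ⧸ m.asIdeal) (B := B)).toRingHom := by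
      have := congrArg Scheme.Hom.appTop h4
      rw [Scheme.Hom.comp_appTop, Scheme.Hom.comp_appTop, Category.assoc] at this
      change ((Scheme.ΓSpecIso _).inv ≫ (Red.bc f T).hom.appTop) ≫ _ ≫ (e m).inv.appTop ≫ (Scheme.ΓSpecIso _).hom = _
      rw [Category.assoc, reassoc_of% this, Scheme.ΓSpecIso_naturality]
      exact (Scheme.ΓSpecIso (CommRingCat.of B)).inv_hom_id_assoc _
    have h7 := congrArg (fun r => r.hom (b : B)) h6
    simpa using h7
  exact congrArg CommaMorphism.left key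

end Groth.Agent.WeilUnits26
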